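import Cfsg.Agent.AltCover.Bound

/-!
Double covers of small alternating groups in which involutions lift to involutions split.
-/

set_option autoImplicit false

namespace CfsgLib.AltCover

open Equiv

theorem involution_facts : ∀ k : Fin 4,
    (∀ i : Fin (k + 2), 1 ≤ (i : ℕ) → sgen (k + 2 + 2) i ≠ 1) ∧
    ∀ i j : Fin (k + 2), (i : ℕ) + 1 < j → sgen (k + 2 + 2) i * sgen (k + 2 + 2) j ≠ 1 := by
  decide +kernel

/-- A section. -/
theorem exists_complement {Γ : Type*} [Group Γ] {m : ℕ} (hm : 2 ≤ m) (hm' : m ≤ 5)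
    {q : Γ →* Perm (Fin (m + 2))} (h : IsExt q) {z : Γ} (hzk : z ∈ q.ker) (hzz : z * z = 1)
    (hel : ∀ g ∈ q.ker, g = 1 ∨ g = z)
    (hinv : ∀ g, q g * q g = 1 → q g ≠ 1 → g * g = 1) :
    ∃ L : Subgroup Γ, q.ker.IsComplement' L := by
  classical
  obtain ⟨hne, hne2⟩ : (∀ i : ℕ, 1 ≤ i → i < m → sgen (m + 2) i ≠ 1) ∧
      ∀ i j : ℕ, i + 1 < j → j < m → sgen (m + 2) i * sgen (m + 2) j ≠ 1 := by
    obtain ⟨k, rfl⟩ : ∃ k, m = k + 2 := ⟨m - 2, by omega⟩
    obtain ⟨a, b⟩ := involution_facts ⟨k, by omega⟩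
    exact ⟨fun i hi hik => a ⟨i, hik⟩ hi, fun i j hij hj => b ⟨i, by simp only; omega⟩ ⟨j, hj⟩ hij⟩
  have hzc : ∀ g, g * z = z * g := Subgroup.mem_center_iff.1 (h.central hzk)
  have hcube : ∀ g : Γ, q g ^ 3 = 1 → g ^ 3 = 1 ∨ (z * g) ^ 3 = 1 := by
    intro g hg
    rcases hel _ (show g ^ 3 ∈ q.ker by rw [MonoidHom.mem_ker, map_pow, hg]) with e | e
    · exact Or.inl e
    · refine Or.inr ?_
      rw [(Commute.mul_pow (hzc g).symm 3), e, pow_succ, sq, hzz, one_mul, hzz]
  have hr := Cfsg.Agent.S3335.carRel_adjSwap m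
  have hs : ∀ i : ℕ, i < m → ∃ y, q y = sgen (m + 2) i := fun i hi =>
    h.exists_lift (sign_sgen (by omega))
  choose y hy using hs
  let step : Γ → Γ → Γ := fun prev w => if (prev * w) ^ 3 = 1 then w else z * w
  let X : Γ := if (y 0 (by omega)) ^ 3 = 1 then y 0 (by omega) else z * y 0 (by omega)
  let F : ℕ → Γ := fun k => Nat.rec (motive := fun _ => Γ) X
    (fun k prev => if hk : k + 1 < m then step prev (y (k + 1) hk) else 1) k
  have hqF : ∀ i, i < m → q (F i) = sgen (m + 2) i := by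
    intro i hi
    have hz1 : ∀ g, q (z * g) = q g := fun g => by rw [map_mul, MonoidHom.mem_ker.1 hzk, one_mul]
    rcases i with _ | k
    · show q X = _
      simp only [X]; split <;> simp [hz1, hy]
    · show q (if hk : k + 1 < m then step (F k) (y (k + 1) hk) else 1) = _
      rw [dif_pos hi]
      simp only [step]; split <;> simp [hz1, hy]
  have rel := fun i j => hr.adj i j
  simp only [← tau_eq_adjSwap] at rel
  have rel2 := hr.two
  simp only [← tau_eq_adjSwap] at rel2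
  have rel3 := hr.three
  simp only [← tau_eq_adjSwap] at rel3
  have rel4 := hr.far
  simp only [← tau_eq_adjSwap] at rel4
  have hF0 : F 0 ^ 3 = 1 := by
    show X ^ 3 = 1
    simp only [X]
    split
    · assumption
    · next hne => exact ((hcube _ (by rw [hy]; exact rel3 ⟨0, by omega⟩ rfl)).resolve_left hne)
  have hadj : ∀ i, i + 1 < m → (F i * F (i + 1)) ^ 3 = 1 := by
    intro i hi
    show (F i * (if hk : i + 1 < m then step (F i) (y (i + 1) hk) else 1)) ^ 3 = 1
    rw [dif_pos hi]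
    simp only [step]
    split
    · assumption
    · next hne =>
      have h' := (hcube (F i * y (i + 1) hi) (by
        rw [map_mul, hqF i (by omega), hy]; exact rel ⟨i, by omega⟩ ⟨i + 1, hi⟩ rfl)).resolve_left hne
      rwa [← mul_assoc, hzc, mul_assoc]
  let s : Fin m → Γ := fun i => F i
  have hrel : Cfsg.Agent.S3335.CarRel s := by
    refine ⟨fun i hi => ?_, fun i hi => ?_, fun i j hij => ?_, fun i j hij => ?_⟩
    · simp only [s, hi]; exact hF0
    · rw [sq]
      refine hinv _ ?_ (by rw [hqF i i.2]; exact hne i hi i.2)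
      rw [hqF i i.2, ← sq]; exact rel2 i hi
    · simp only [s, hij]; exact hadj i (hij ▸ j.2)
    · rw [sq]
      refine hinv _ ?_ (by rw [map_mul, hqF i i.2, hqF j j.2]; exact hne2 i j hij j.2)
      rw [map_mul, hqF i i.2, hqF j j.2, ← sq]; exact rel4 i j hij
  let f : PresentedGroup (Cfsg.Agent.S3335.carRels m) →* Γ :=
    PresentedGroup.toGroup (Cfsg.Agent.S3335.lift_of_carRel hrel)
  have hqf : q.comp f = carHom m := PresentedGroup.ext fun i => by
    show q (f (PresentedGroup.of i)) = _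
    rw [show f (PresentedGroup.of i) = s i from PresentedGroup.toGroup.of _, carHom_of]
    exact hqF i i.2
  obtain ⟨hcinj, hcrange⟩ := carHom_bijOn m
  refine ⟨f.range, Subgroup.isComplement'_of_disjoint_and_mul_eq_univ ?_ (Set.eq_univ_of_forall fun g => ?_)⟩
  · rw [Subgroup.disjoint_def]
    rintro _ hk ⟨a, rfl⟩
    have : carHom m a = 1 := by rw [← hqf]; exact hk
    rw [show a = 1 from hcinj (this.trans (map_one _).symm), map_one]
  · obtain ⟨a, ha⟩ : q g ∈ (carHom m).range := by rw [hcrange, ← h.range]; exact ⟨g, rfl⟩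
    refine ⟨g * (f a)⁻¹, ?_, f a, ⟨a, rfl⟩, inv_mul_cancel_right _ _⟩
    rw [SetLike.mem_coe, MonoidHom.mem_ker, map_mul, map_inv, ← ha, ← hqf, MonoidHom.comp_apply,
      mul_inv_cancel]

theorem isConj_double {n : ℕ} (hn : n ≤ 7) (hn4 : 4 ≤ n) {s : Perm (Fin n)}
    (hs : Perm.sign s = 1) (h2 : s * s = 1) (h1 : s ≠ 1) :
    ∃ σ : Perm (Fin n), Perm.sign σ = 1 ∧ σ * sgen n 1 * σ⁻¹ = s := by
  have hct : ∀ t : Perm (Fin n), Perm.sign t = 1 → t * t = 1 → t ≠ 1 →
      t.cycleType = Multiset.replicate 2 2 := by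
    intro t ht ht2 ht1
    haveI : Fact (Nat.Prime 2) := ⟨Nat.prime_two⟩
    have ho : orderOf t = 2 := orderOf_eq_prime (by rw [sq, ht2]) ht1
    obtain ⟨k, hk⟩ := Perm.cycleType_prime_order (show (orderOf t).Prime by rw [ho]; exact Nat.prime_two)
    rw [ho] at hk
    have hsum := Perm.sum_cycleType t
    have hcard : t.support.card ≤ n := le_trans (Finset.card_le_univ _) (by simp)
    have hsign := Perm.sign_of_cycleType t
    rw [ht, hk] at hsign
    rw [hk, Multiset.sum_replicate, smul_eq_mul] at hsum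
    simp only [Multiset.sum_replicate, Multiset.card_replicate, smul_eq_mul] at hsign
    have hk2 : k = 0 ∨ k = 1 ∨ k = 2 := by omega
    rcases hk2 with rfl | rfl | rfl
    · exact absurd hsign (by decide)
    · exact hk
    · exact absurd hsign (by decide)
  obtain ⟨-, -, -, f4⟩ := four_facts hn4
  have f1 : sgen n 1 ≠ 1 := by
    intro e
    obtain ⟨k, rfl⟩ : ∃ k, n = k + 2 + 2 := ⟨n - 4, by omega⟩
    exact (involution_facts ⟨k, by omega⟩).1 ⟨1, by simp⟩ le_rfl e
  obtain ⟨σ, hσ⟩ := isConj_iff.1 (Perm.isConj_iff_cycleType_eq.2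
    ((hct _ (sign_sgen (by omega)) f4 f1).trans (hct s hs h2 h1).symm))
  rcases Int.units_eq_one_or (Perm.sign σ) with e | e
  · exact ⟨σ, e, hσ⟩
  · refine ⟨σ * tau n 0, by rw [map_mul, e, sign_tau (by omega)]; rfl, ?_⟩
    have ht : tau n 0 * sgen n 1 * (tau n 0)⁻¹ = sgen n 1 := by
      have h4 : tau 4 0 * sgen 4 1 * (tau 4 0)⁻¹ = sgen 4 1 := by decide +kernel
      simpa [incl_sgen hn4, incl_tau hn4] using congrArg (incl hn4) h4
    calc σ * tau n 0 * sgen n 1 * (σ * tau n 0)⁻¹ = σ * (tau n 0 * sgen n 1 * (tau n 0)⁻¹) * σ⁻¹ := by group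
      _ = s := by rw [ht, hσ]

end CfsgLib.AltCover
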